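import Cfsg.Agent.JOneUnique.Data.FinalEdgeDef

set_option autoImplicit false
set_option maxRecDepth 20000

/-! Part of the generated coset enumeration certificate for the uniqueness proof of `J₁`. -/

namespace CfsgLib.JOneUnique

open CfsgLib.MTwelveUnique

noncomputable section

theorem final_edges4_0 : edgesFrom 4 finalPaths4_0 0 = true := by
  decide +kernel

theorem final_edges4_1 : edgesFrom 4 finalPaths4_1 500 = true := by
  decide +kernel

theorem final_edges4_2 : edgesFrom 4 finalPaths4_2 1000 = true := by
  decide +kernel

theorem final_pathsLen4_0 : finalPaths4_0.length = 500 := by decide +kernel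

theorem final_pathsLen4_1 : finalPaths4_1.length = 500 := by decide +kernel

theorem final_pathsLen4_2 : finalPaths4_2.length = 463 := by decide +kernel

theorem final_column4 : edgesFrom 4 (List.flatten [finalPaths4_0, finalPaths4_1, finalPaths4_2]) 0 = true ∧
    (List.flatten [finalPaths4_0, finalPaths4_1, finalPaths4_2]).length = 1463 := by
  simp only [List.flatten_cons, List.flatten_nil, List.append_nil, List.length_append, edgesFrom_append,
    final_pathsLen4_0, final_pathsLen4_1, final_pathsLen4_2, Nat.zero_add, Nat.reduceAdd,
    final_edges4_0, final_edges4_1, final_edges4_2, Bool.and_self, and_self]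

end

end CfsgLib.JOneUnique
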