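import Cfsg.Agent.JOneUnique.Data.FinalData

set_option autoImplicit false
set_option maxRecDepth 20000

/-! Part of the generated coset enumeration certificate for the uniqueness proof of `J₁`. -/

namespace CfsgLib.JOneUnique

open CfsgLib.MTwelveUnique

noncomputable section

theorem final_steps5 :
    stepsOK (relsOf 3) subs finalCert.F finalSteps5 5483 = true := by
  decide +kernel

theorem final_len5 : finalSteps5.length = 500 := by decide +kernel

theorem final_steps6 :
    stepsOK (relsOf 3) subs finalCert.F finalSteps6 5983 = true := by
  decide +kernel

theorem final_len6 : finalSteps6.length = 500 := by decide +kernel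

theorem final_steps7 :
    stepsOK (relsOf 3) subs finalCert.F finalSteps7 6483 = true := by
  decide +kernel

theorem final_len7 : finalSteps7.length = 500 := by decide +kernel

theorem final_steps8 :
    stepsOK (relsOf 3) subs finalCert.F finalSteps8 6983 = true := by
  decide +kernel

theorem final_len8 : finalSteps8.length = 500 := by decide +kernel

theorem final_steps9 :
    stepsOK (relsOf 3) subs finalCert.F finalSteps9 7483 = true := by
  decide +kernel

theorem final_len9 : finalSteps9.length = 500 := by decide +kernel

end

end CfsgLib.JOneUnique
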