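import Cfsg.Agent.JOneUnique.Data.FinalData

set_option autoImplicit false
set_option maxRecDepth 20000

/-! Part of the generated coset enumeration certificate for the uniqueness proof of `J₁`. -/

namespace CfsgLib.JOneUnique

open CfsgLib.MTwelveUnique

noncomputable section

theorem final_steps10 :
    stepsOK (relsOf 3) subs finalCert.F finalSteps10 7983 = true := by
  decide +kernel

theorem final_len10 : finalSteps10.length = 500 := by decide +kernel

theorem final_steps11 :
    stepsOK (relsOf 3) subs finalCert.F finalSteps11 8483 = true := by
  decide +kernel

theorem final_len11 : finalSteps11.length = 500 := by decide +kernel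

theorem final_steps12 :
    stepsOK (relsOf 3) subs finalCert.F finalSteps12 8983 = true := by
  decide +kernel

theorem final_len12 : finalSteps12.length = 500 := by decide +kernel

theorem final_steps13 :
    stepsOK (relsOf 3) subs finalCert.F finalSteps13 9483 = true := by
  decide +kernel

theorem final_len13 : finalSteps13.length = 425 := by decide +kernel

end

end CfsgLib.JOneUnique
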