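import Cfsg.Agent.JOneUnique.Data.FinalSteps0
import Cfsg.Agent.JOneUnique.Data.FinalSteps1
import Cfsg.Agent.JOneUnique.Data.FinalSteps2
import Cfsg.Agent.JOneUnique.Data.FinalEdges0
import Cfsg.Agent.JOneUnique.Data.FinalEdges1
import Cfsg.Agent.JOneUnique.Data.FinalEdges2
import Cfsg.Agent.JOneUnique.Data.FinalEdges3
import Cfsg.Agent.JOneUnique.Data.FinalEdges4

set_option autoImplicit false
set_option maxRecDepth 20000

/-! Part of the generated coset enumeration certificate for the uniqueness proof of `J₁`. -/

namespace CfsgLib.JOneUnique

open CfsgLib.MTwelveUnique

noncomputable section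

theorem final_ok : finalCert.ok (relsOf 3) subs = true := by
  rw [Cert.ok, final_tree, Bool.true_and]
  show stepsOK (relsOf 3) subs finalCert.F (List.flatten _) 2983 = true
  simp only [List.flatten_cons, List.flatten_nil, List.append_nil, stepsOK_append,
    final_len0, final_len1, final_len2, final_len3, final_len4, final_len5, final_len6, final_len7, final_len8, final_len9, final_len10, final_len11, final_len12, Nat.reduceAdd,
    final_steps0, final_steps1, final_steps2, final_steps3, final_steps4, final_steps5, final_steps6, final_steps7, final_steps8, final_steps9, final_steps10, final_steps11, final_steps12, final_steps13, Bool.and_self]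

theorem final_edge {x i : ℕ} (hx : x < 5) (hi : i < 1463) : edgeOK x i = true := by
  have key : edgesFrom x (finalPaths.getD x []) 0 = true ∧ (finalPaths.getD x []).length = 1463 := by
    interval_cases x
    exacts [final_column0, final_column1, final_column2, final_column3, final_column4]
  have := edgesFrom_spec x _ 0 i key.1 (by rw [key.2]; exact hi)
  rwa [Nat.zero_add] at this

end

end CfsgLib.JOneUnique
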