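import Cfsg.Agent.JOneUnique.Data.FinalData

set_option autoImplicit false
set_option maxRecDepth 20000

/-! Part of the generated coset enumeration certificate for the uniqueness proof of `J₁`. -/

namespace CfsgLib.JOneUnique

open CfsgLib.MTwelveUnique

noncomputable section

/-- The entry `p` derives the image of coset `i` under generator `x`. -/
def edgeP (x i p : ℕ) : Bool :=
  let j := CosetEnum.ext (finalTab.getD x 0) i
  Nat.blt j 1463 && finalCert.reads [2 * x] (CosetEnum.ext finalReps i) (CosetEnum.ext finalReps j) p

/-- The entry for coset `i` and generator `x` is derived. -/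
def edgeOK (x i : ℕ) : Bool :=
  edgeP x i ((finalPaths.getD x []).getD i 0)

/-- A run of consecutive entries, starting at coset `i`, checked in one pass. -/
def edgesFrom (x : ℕ) : List ℕ → ℕ → Bool
  | [], _ => true
  | p :: ps, i => edgeP x i p && edgesFrom x ps (i + 1)

theorem edgesFrom_append (x : ℕ) : ∀ (a b : List ℕ) (i : ℕ),
    edgesFrom x (a ++ b) i = (edgesFrom x a i && edgesFrom x b (i + a.length)) := by
  intro a
  induction a with
  | nil => intro b i; simp [edgesFrom]
  | cons p a ih =>
    intro b i
    simp only [List.cons_append, edgesFrom, ih, Bool.and_assoc, List.length_cons]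
    rw [show i + 1 + a.length = i + (a.length + 1) by omega]

theorem edgesFrom_spec (x : ℕ) : ∀ (l : List ℕ) (i k : ℕ), edgesFrom x l i = true → k < l.length →
    edgeP x (i + k) (l.getD k 0) = true := by
  intro l
  induction l with
  | nil => intro i k _ hk; simp at hk
  | cons p l ih =>
    intro i k h hk
    simp only [edgesFrom, Bool.and_eq_true] at h
    cases k with
    | zero => simpa using h.1
    | succ k =>
      have := ih (i + 1) k h.2 (by simpa using hk)
      simpa [Nat.add_assoc, Nat.add_comm 1 k] using this

end

end CfsgLib.JOneUnique
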