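import Cfsg.Agent.JOneUnique.Data.FinalData

set_option autoImplicit false
set_option maxRecDepth 20000

/-! Part of the generated coset enumeration certificate for the uniqueness proof of `J₁`. -/

namespace CfsgLib.JOneUnique

open CfsgLib.MTwelveUnique

noncomputable section

theorem final_tree : treeFacts finalCert.F finalCert.parN finalCert.parX finalCert.nT = true := by
  decide +kernel

theorem final_steps0 :
    stepsOK (relsOf 3) subs finalCert.F finalSteps0 2983 = true := by
  decide +kernel

theorem final_len0 : finalSteps0.length = 500 := by decide +kernel

theorem final_steps1 :
    stepsOK (relsOf 3) subs finalCert.F finalSteps1 3483 = true := by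
  decide +kernel

theorem final_len1 : finalSteps1.length = 500 := by decide +kernel

theorem final_steps2 :
    stepsOK (relsOf 3) subs finalCert.F finalSteps2 3983 = true := by
  decide +kernel

theorem final_len2 : finalSteps2.length = 500 := by decide +kernel

theorem final_steps3 :
    stepsOK (relsOf 3) subs finalCert.F finalSteps3 4483 = true := by
  decide +kernel

theorem final_len3 : finalSteps3.length = 500 := by decide +kernel

theorem final_steps4 :
    stepsOK (relsOf 3) subs finalCert.F finalSteps4 4983 = true := by
  decide +kernel

theorem final_len4 : finalSteps4.length = 500 := by decide +kernel

end

end CfsgLib.JOneUnique
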